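import Groth.Agent.QCohGab.Gen

/-!
# The category of quasi-coherent modules is Grothendieck abelian
-/

set_option autoImplicit false
set_option linter.unusedSectionVars false
set_option linter.style.haveILetI false
set_option backward.isDefEq.respectTransparency false
set_option backward.isDefEq.respectTransparency.types false

universe u

open CategoryTheory CategoryTheory.Limits AlgebraicGeometry TopologicalSpace Opposite

noncomputable section

namespace Groth.Agent.QCohGab

open Groth.Agent.QCoh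

variable (X : Scheme.{u})

attribute [local instance] KFlatLib.isGrothendieckAbelian_modules

instance isClosedUnderColimits (J : Type u) [SmallCategory J] :
    (QCohCat.isQCoh X).IsClosedUnderColimitsOfShape J where
  colimitsOfShape_le := by
    rintro M ⟨p⟩
    exact (QCoh.isQCoh_iff_iso (IsColimit.coconePointUniqueUpToIso (colimit.isColimit p.diag) p.isColimit)).1
      (QCoh.isQCoh_colimit p.diag p.prop_diag_obj)

instance hasColimitsOfShape (J : Type u) [SmallCategory J] : HasColimitsOfShape J (QCohCat.QCoh X) :=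
  inferInstanceAs (HasColimitsOfShape J (QCohCat.isQCoh X).FullSubcategory)

instance hasColimits : HasColimitsOfSize.{u, u} (QCohCat.QCoh X) := ⟨fun J _ => hasColimitsOfShape X J⟩

theorem isSeparating_gen : (ObjectProperty.ofObj (gen X)).IsSeparating := by
  intro F F' f g h
  apply ObjectProperty.hom_ext
  refine Scheme.Modules.hom_ext _ _ fun O => ?_
  ext s
  refine sub_eq_zero.1 (eq_zero_of_locally O _ fun x hx => ?_)
  obtain ⟨P, hP, hxP, hPO⟩ := exists_isAffineOpen_mem_and_subset (X := X) (x := x) (U := O) hx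
  have hle : P ≤ O := hPO
  refine ⟨P, homOfLE hle, hxP, ?_⟩
  rw [map_sub, sub_eq_zero, ← map_app_comm, ← map_app_comm]
  set t : Γ(F.obj, P) := F.obj.presheaf.map (homOfLE hle).op s
  obtain ⟨i, ⟨e⟩⟩ := exists_idx F.2 ⟨P, hP⟩ t
  let φ : gen X i ⟶ F := ObjectProperty.homMk (e.hom ≫ (sub F.2 ⟨P, hP⟩ t).ι)
  have h2 : (sub F.2 ⟨P, hP⟩ t).ι ≫ f.hom = (sub F.2 ⟨P, hP⟩ t).ι ≫ g.hom := by
    rw [← cancel_epi e.hom, ← Category.assoc, ← Category.assoc]
    exact congrArg InducedCategory.Hom.hom (h _ (ObjectProperty.ofObj_apply _ i) φ)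
  obtain ⟨y, hy⟩ := (sub F.2 ⟨P, hP⟩ t).exists_app_eq (mem_sub_self F.2 ⟨P, hP⟩ t)
  have h3 := congrArg (fun ψ : (sub F.2 ⟨P, hP⟩ t).toModules ⟶ F'.obj => ψ.app P y) h2
  change f.hom.app P (((sub F.2 ⟨P, hP⟩ t).ι).app P y) = g.hom.app P (((sub F.2 ⟨P, hP⟩ t).ι).app P y) at h3
  rwa [hy] at h3

/-- Gabber's theorem. -/
instance isGrothendieckAbelian_qcoh : IsGrothendieckAbelian.{u} (QCohCat.QCoh X) where
  hasFilteredColimitsOfSize := ⟨fun J _ _ => hasColimitsOfShape X J⟩
  ab5OfSize := ⟨fun J _ _ =>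
    HasExactColimitsOfShape.domain_of_functor J (QCohCat.isQCoh X).ι⟩
  hasSeparator := ⟨⟨∐ gen X, (isSeparating_gen X).isSeparator_coproduct⟩⟩

theorem isLeftAdjoint_ι : ((QCohCat.isQCoh X).ι).IsLeftAdjoint := by
  haveI : PreservesColimitsOfSize.{u, u} (QCohCat.isQCoh X).ι := ⟨fun {J} _ => inferInstance⟩
  exact isLeftAdjoint_of_preservesColimits_of_isSeparating (isSeparating_gen X) _

end Groth.Agent.QCohGab
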