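import Groth.Agent.QCoh.ExtendFT
import Groth.Agent.KFlatLib.Scheme.Grothendieck
import Groth.Agent.Exactness.QCohCategory

/-!
# Gabber's theorem: quasi-coherent modules on any scheme form a Grothendieck abelian category

Every section of a quasi-coherent module over an affine open lies in a quasi-coherent submodule whose
sections over each affine open are spanned by a family indexed by a fixed small type.
-/

set_option autoImplicit false
set_option linter.unusedSectionVars false
set_option linter.style.haveILetI false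
set_option backward.isDefEq.respectTransparency false
set_option backward.isDefEq.respectTransparency.types false

universe u

open CategoryTheory CategoryTheory.Limits AlgebraicGeometry TopologicalSpace Opposite

noncomputable section

namespace Groth.Agent.QCohGab

open Groth.Agent.QCoh

variable (X : Scheme.{u})

/-- A pair of affine opens with a common basic open. -/
structure Step : Type u where
  /-- the first open -/
  src : X.affineOpens
  /-- the second open -/
  tgt : X.affineOpens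
  /-- the function on the first open -/
  b : Γ(X, src.1)
  /-- the function on the second open -/
  c : Γ(X, tgt.1)
  heq : X.basicOpen b = X.basicOpen c

variable {X} {G : X.Modules}

theorem Step.le_src (p : Step X) : X.basicOpen p.c ≤ p.src.1 := p.heq ▸ X.basicOpen_le p.b

/-- The section of the second open attached to a section of the first one. -/
def stepSec (hG : Coh.IsQCoh G) (p : Step X) (t : Γ(G, p.src.1)) : Γ(G, p.tgt.1) :=
  (exists_pow_smul_eq_map hG p.tgt.2 p.c (rs G p.le_src t)).choose_spec.choose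

theorem stepSec_spec (hG : Coh.IsQCoh G) (p : Step X) (t : Γ(G, p.src.1)) :
    ∃ n : ℕ, rs G (X.basicOpen_le p.c) (stepSec hG p t) =
      rf X (X.basicOpen_le p.c) p.c ^ n • rs G p.le_src t :=
  ⟨_, (exists_pow_smul_eq_map hG p.tgt.2 p.c (rs G p.le_src t)).choose_spec.choose_spec⟩

variable (hG : Coh.IsQCoh G) (W₀ : X.affineOpens) (s₀ : Γ(G, W₀.1))

open Classical in
/-- The sections reached from `s₀` along lists of steps. -/
def val : List (Step X) → Σ W : X.affineOpens, Γ(G, W.1)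
  | [] => ⟨W₀, s₀⟩
  | p :: l =>
    if h : (val l).1 = p.src then ⟨p.tgt, stepSec hG p (h ▸ (val l).2)⟩ else ⟨W₀, s₀⟩

/-- The generators over an affine open. -/
def gens (W : X.affineOpens) : Set Γ(G, W.1) := {t | ∃ l, val hG W₀ s₀ l = ⟨W, t⟩}

theorem mem_gens_self : s₀ ∈ gens hG W₀ s₀ W₀ := ⟨[], rfl⟩

theorem stepSec_mem_gens (p : Step X) {t : Γ(G, p.src.1)} (ht : t ∈ gens hG W₀ s₀ p.src) :
    stepSec hG p t ∈ gens hG W₀ s₀ p.tgt := by
  obtain ⟨l, hl⟩ := ht
  refine ⟨p :: l, ?_⟩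
  rw [val]
  generalize hv : val hG W₀ s₀ l = v at hl
  subst hl
  rw [dif_pos rfl]

/-- A generator over one affine open lies locally in the span of the generators over another. -/
theorem exists_mem_span {W W' : X.affineOpens} {t : Γ(G, W.1)} (ht : t ∈ gens hG W₀ s₀ W) {x : X}
    (hx : x ∈ W.1) (hx' : x ∈ W'.1) :
    ∃ (P : X.Opens) (hP : P ≤ W.1) (hP' : P ≤ W'.1), x ∈ P ∧
      rs G hP t ∈ Submodule.span Γ(X, P) (rs G hP' '' gens hG W₀ s₀ W') := by
  obtain ⟨b, c, hbc, hxb⟩ := exists_basicOpen_le_affine_inter W.2 W'.2 x ⟨hx, hx'⟩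
  let p : Step X := ⟨W, W', b, c, hbc⟩
  obtain ⟨n, hn⟩ := stepSec_spec hG p t
  refine ⟨X.basicOpen c, p.le_src, X.basicOpen_le c, hbc ▸ hxb, ?_⟩
  obtain ⟨v, hv⟩ := (isUnit_rf_basicOpen (X := X) c).pow n
  have hm : rf X (X.basicOpen_le c) c ^ n • rs G p.le_src t ∈
      Submodule.span Γ(X, X.basicOpen c) (rs G (X.basicOpen_le c) '' gens hG W₀ s₀ W') :=
    hn ▸ Submodule.subset_span ⟨_, stepSec_mem_gens hG W₀ s₀ p ht, rfl⟩
  have h2 := Submodule.smul_mem _ (↑v⁻¹ : Γ(X, X.basicOpen c)) hm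
  rwa [← hv, smul_smul, Units.inv_mul, one_smul] at h2

theorem rs_mem_span_gens {W W' : X.affineOpens} (h : W'.1 ≤ W.1) {s : Γ(G, W.1)}
    (hs : s ∈ Submodule.span Γ(X, W.1) (gens hG W₀ s₀ W)) :
    rs G h s ∈ Submodule.span Γ(X, W'.1) (gens hG W₀ s₀ W') := by
  refine Submodule.span_le.2 ?_ (rs_mem_span h hs)
  rintro _ ⟨t, ht, rfl⟩
  refine mem_span_of_locally hG W'.2 _ _ fun x hx => ?_
  obtain ⟨P, hP, hP', hxP, hPs⟩ := exists_mem_span hG W₀ s₀ (W' := W') ht (h hx) hx
  exact ⟨P, hP', hxP, by rwa [rs_rs]⟩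

theorem mem_span_rs_gens {W W' : X.affineOpens} (h : W'.1 ≤ W.1) {s : Γ(G, W'.1)}
    (hs : s ∈ Submodule.span Γ(X, W'.1) (gens hG W₀ s₀ W')) :
    s ∈ Submodule.span Γ(X, W'.1) (rs G h '' gens hG W₀ s₀ W) := by
  refine Submodule.span_le.2 ?_ hs
  intro t ht
  refine mem_span_of_locally hG W'.2 _ _ fun x hx => ?_
  obtain ⟨P, hP, hP', hxP, hPs⟩ := exists_mem_span hG W₀ s₀ (W' := W) ht hx (h hx)
  refine ⟨P, hP, hxP, ?_⟩
  rwa [Set.image_image, show (fun t => rs G hP (rs G h t)) = rs G hP' from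
    funext fun t => rs_rs h hP t]

/-- The submodule generated by `s₀`. -/
def sub : SubMod G where
  mem O :=
    { carrier := {s | ∀ (W : X.affineOpens) (h : W.1 ≤ O),
        rs G h s ∈ Submodule.span Γ(X, W.1) (gens hG W₀ s₀ W)}
      zero_mem' := fun W h => by rw [rs, map_zero]; exact zero_mem _
      add_mem' := fun {a b} ha hb W h => by rw [rs, map_add]; exact add_mem (ha W h) (hb W h)
      smul_mem' := fun a s hs W h => by rw [rs_smul]; exact Submodule.smul_mem _ _ (hs W h) }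
  map_mem {O O'} i {s} hs W h := by
    change rs G h (rs G i s) ∈ _
    rw [rs_rs]
    exact hs W (h.trans i)
  of_locally O s hs W h := by
    refine mem_span_of_locally hG W.2 _ _ fun x hx => ?_
    obtain ⟨V, i, hxV, hV⟩ := hs x (h hx)
    obtain ⟨P, hP, hxP, hPV⟩ :=
      exists_isAffineOpen_mem_and_subset (X := X) (x := x) (U := V ⊓ W.1) ⟨hxV, hx⟩
    have hle : P ≤ V ⊓ W.1 := hPV
    have h1 := hV ⟨P, hP⟩ (hle.trans inf_le_left)
    change rs G (hle.trans inf_le_left) (rs G i s) ∈ _ at h1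
    rw [rs_rs] at h1
    refine ⟨P, hle.trans inf_le_right, hxP, ?_⟩
    rw [rs_rs]
    exact mem_span_rs_gens hG W₀ s₀ (W' := ⟨P, hP⟩) _ h1

theorem mem_sub_iff (W : X.affineOpens) (s : Γ(G, W.1)) :
    s ∈ (sub hG W₀ s₀).mem W.1 ↔ s ∈ Submodule.span Γ(X, W.1) (gens hG W₀ s₀ W) := by
  refine ⟨fun h => ?_, fun h W' hW' => rs_mem_span_gens hG W₀ s₀ hW' h⟩
  have := h W le_rfl
  rwa [rs_self] at this

theorem mem_sub_self : s₀ ∈ (sub hG W₀ s₀).mem W₀.1 :=
  (mem_sub_iff hG W₀ s₀ W₀ s₀).2 (Submodule.subset_span (mem_gens_self hG W₀ s₀))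

theorem isQCoh_sub : Coh.IsQCoh (sub hG W₀ s₀).toModules := by
  set N := sub hG W₀ s₀ with hN
  refine isQCoh_of_sections (fun V hV f s => ?_) (fun V hV f t ht => ?_)
  · obtain ⟨n, z, hz⟩ := exists_pow_smul_eq_map hG hV f (N.ι.app _ s)
    have hzN : rs G (X.basicOpen_le f) z ∈ N.mem (X.basicOpen f) := by
      rw [rs, hz]
      exact Submodule.smul_mem _ _ (N.ι_app_mem _ s)
    have hzS := mem_span_rs_gens hG W₀ s₀ (W := ⟨V, hV⟩) (W' := ⟨_, hV.basicOpen f⟩) (X.basicOpen_le f)
      ((mem_sub_iff hG W₀ s₀ ⟨_, hV.basicOpen f⟩ _).1 hzN)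
    obtain ⟨m, hm⟩ := exists_pow_smul_mem_span hG hV f _ z hzS
    obtain ⟨t, ht⟩ := N.exists_app_eq ((mem_sub_iff hG W₀ s₀ ⟨V, hV⟩ _).2 hm)
    refine ⟨m + n, t, N.ι_app_injective _ ?_⟩
    rw [ι_app_smul, map_app_comm, ht]
    show rs G _ (f ^ m • z) = _
    rw [rs_smul, rs, hz, pow_add, mul_smul]
    simp only [rf, map_pow]
  · obtain ⟨n, hn⟩ := exists_pow_smul_eq_zero hG hV f (N.ι.app _ t) (by
      rw [← map_app_comm, ht, map_zero])
    exact ⟨n, N.ι_app_injective _ (by rw [ι_app_smul, hn, map_zero])⟩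

variable (X) in
/-- A bound for the sections of the generated submodules. -/
def Bound (O : X.Opens) : Type u := ∀ W : {W : X.affineOpens // W.1 ≤ O}, List (Step X) →₀ Γ(X, W.1.1)

open Classical in
/-- The generators as a family. -/
def genFam (W : X.affineOpens) (l : List (Step X)) : Γ(G, W.1) :=
  if h : ∃ t, val hG W₀ s₀ l = ⟨W, t⟩ then h.choose else 0

theorem gens_subset_range (W : X.affineOpens) : gens hG W₀ s₀ W ⊆ Set.range (genFam hG W₀ s₀ W) := by
  rintro t ⟨l, hl⟩
  refine ⟨l, ?_⟩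
  have h : ∃ t, val hG W₀ s₀ l = ⟨W, t⟩ := ⟨t, hl⟩
  rw [genFam, dif_pos h]
  exact eq_of_heq (Sigma.mk.inj (h.choose_spec.symm.trans hl)).2

theorem exists_code (O : X.Opens) (y : Γ((sub hG W₀ s₀).toModules, O)) :
    ∃ c : Bound X O, ∀ W : {W : X.affineOpens // W.1 ≤ O},
      Finsupp.linearCombination Γ(X, W.1.1) (genFam hG W₀ s₀ W.1) (c W) =
        rs G W.2 ((sub hG W₀ s₀).ι.app O y) := by
  have h : ∀ W : {W : X.affineOpens // W.1 ≤ O}, ∃ c : List (Step X) →₀ Γ(X, W.1.1),
      Finsupp.linearCombination Γ(X, W.1.1) (genFam hG W₀ s₀ W.1) c =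
        rs G W.2 ((sub hG W₀ s₀).ι.app O y) := fun W => by
    have h1 := (sub hG W₀ s₀).ι_app_mem O y W.1 W.2
    have h2 := Submodule.span_mono (gens_subset_range hG W₀ s₀ W.1) h1
    rw [← Finsupp.range_linearCombination, LinearMap.mem_range] at h2
    exact h2
  choose c hc using h
  exact ⟨c, hc⟩

/-- The code of a section. -/
def code (O : X.Opens) (y : Γ((sub hG W₀ s₀).toModules, O)) : Bound X O :=
  (exists_code hG W₀ s₀ O y).choose

theorem code_injective (O : X.Opens) : Function.Injective (code hG W₀ s₀ O) := by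
  intro y z h
  refine (sub hG W₀ s₀).ι_app_injective O (sub_eq_zero.1 (eq_zero_of_locally O _ fun x hx => ?_))
  obtain ⟨P, hP, hxP, hPO⟩ := exists_isAffineOpen_mem_and_subset (X := X) (x := x) (U := O) hx
  have hle : P ≤ O := hPO
  refine ⟨P, homOfLE hle, hxP, ?_⟩
  have hy := (exists_code hG W₀ s₀ O y).choose_spec ⟨⟨P, hP⟩, hle⟩
  have hz := (exists_code hG W₀ s₀ O z).choose_spec ⟨⟨P, hP⟩, hle⟩
  rw [map_sub, sub_eq_zero]
  change rs G hle _ = rs G hle _
  rw [← hy, ← hz]
  exact congrArg _ (congrFun h _)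

variable (X)

attribute [local instance] KFlatLib.isGrothendieckAbelian_modules

/-- A separator of all modules. -/
def sep : X.Modules := separator X.Modules

/-- A bound for the morphisms from the separator to a generated submodule. -/
def HomBound : Type u := ∀ O : X.Opens, Γ(sep X, O) → Bound X O

/-- The quotients of a fixed module which are quasi-coherent. -/
def Idx : Type u :=
  {q : Shrink.{u} (Subobject (∐ fun _ : HomBound X => sep X)) //
    Coh.IsQCoh (cokernel ((equivShrink (Subobject (∐ fun _ : HomBound X => sep X))).symm q).arrow)}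

/-- The family of generators. -/
def gen (i : Idx X) : QCohCat.QCoh X := ⟨_, i.2⟩

variable {X}

theorem exists_idx : ∃ i : Idx X, Nonempty ((gen X i).obj ≅ (sub hG W₀ s₀).toModules) := by
  set N := (sub hG W₀ s₀).toModules
  let e : (sep X ⟶ N) → HomBound X := fun φ O y => code hG W₀ s₀ O (φ.app O y)
  have he : Function.Injective e := fun φ ψ h => Scheme.Modules.hom_ext _ _ fun O => by
    ext y
    exact code_injective hG W₀ s₀ O (congrFun (congrFun h O) y)
  let π : (∐ fun _ : HomBound X => sep X) ⟶ N := Sigma.desc fun h => Function.invFun e h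
  haveI : Epi (Sigma.desc fun φ : sep X ⟶ N => φ) :=
    (isSeparator_iff_epi (sep X)).1 (isSeparator_separator X.Modules) N
  haveI : Epi π := by
    have h : Sigma.desc (fun φ : sep X ⟶ N => Sigma.ι (fun _ : HomBound X => sep X) (e φ)) ≫ π =
        Sigma.desc fun φ : sep X ⟶ N => φ :=
      Sigma.hom_ext _ _ fun φ => by simp [π, Function.leftInverse_invFun he φ]
    exact epi_of_epi_fac h
  obtain ⟨iso⟩ : Nonempty (cokernel ((equivShrink (Subobject (∐ fun _ : HomBound X => sep X))).symm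
      (equivShrink _ (Subobject.mk (kernel.ι π)))).arrow ≅ N) := by
    rw [Equiv.symm_apply_apply]
    exact ⟨cokernelIsoOfEq (Subobject.underlyingIso_hom_comp_eq_mk (kernel.ι π)).symm ≪≫
      cokernelEpiComp _ _ ≪≫
      (cokernelIsCokernel (kernel.ι π)).coconePointUniqueUpToIso
        (Abelian.epiIsCokernelOfKernel _ (limit.isLimit _))⟩
  exact ⟨⟨_, (QCoh.isQCoh_iff_iso iso).2 (isQCoh_sub hG W₀ s₀)⟩, ⟨iso⟩⟩

end Groth.Agent.QCohGab
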